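import Cfsg.Agent.H20.RIM.Big
import Cfsg.Agent.H696.RIM.Count

/-!
# S4816, layer (B), `p = 3`: from the module `W` to the abstract situation `AS` (helper20)

* `fixed_of_card` : a vector `w` with `|T_w| = 2` gives fixed vectors of the Sylow `3`-subgroups;
* `as_of` : `AS`.
-/

set_option autoImplicit false
set_option linter.unusedSectionVars false

open scoped commutatorElement
open Module

namespace Cfsg.Agent.H20.RIM

open Cfsg.Agent.H586.NX
open Cfsg.Agent.H20.GWX
open Cfsg.Agent.H684.GW (FD exists_FD)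
open Cfsg.Agent.H684.GW.FD
open Cfsg.Agent.H921.NX (perp mem_perp mem_Tw exists_T)
open Cfsg.Agent.H473.NX (exists_sylow triv_of_small)
open scoped Pointwise

universe u v

section

variable {r n : ℕ} {G : Type v} {W : Type u} {Y U : Type*} [Group G] [Finite G] [AddCommGroup W] [Finite W]
    [DistribMulAction G W] [Group Y] [Finite Y] [AddCommGroup U] [Finite U] [DistribMulAction Y U]
    {L Z : Subgroup G} {π : G →* Y} {a : L →* Multiplicative U} {X : Subgroup Y} {B : U → U → ZMod 2}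

theorem fixed_of_card (h : LB (W := W) 3 3 2 n L Z π a B) {w : W} (hw : w ≠ 0)
    (hwi : Nat.card (Tw L a w) = 2 ^ 1) : ∀ P : Sylow 3 Y, ∃ u : U, u ≠ 0 ∧ ∀ x ∈ P, x • u = u := by
  obtain ⟨T, hT, -, hinv⟩ := exists_T h hw
  obtain ⟨P₀, hP₀⟩ := exists_sylow Nat.prime_three h w
  have hcard : Nat.card T = 2 ^ 1 := by
    rw [← hwi, ← hT]
    rfl
  have h1 : ∀ m ∈ (P₀ : Subgroup Y), ∀ t ∈ T, m • t ∈ T := by
    intro m hm t ht
    obtain ⟨g, hg, rfl⟩ := hP₀ m hm
    exact hinv g hg t ht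
  have h2 := triv_of_small Nat.prime_three Nat.prime_two (by norm_num) P₀.isPGroup' h1 hcard (by
    intro k k1 k2
    have h3 : k = 1 := by omega
    subst h3
    norm_num)
  obtain ⟨u, huT, hu0⟩ : ∃ u ∈ T, u ≠ 0 := by
    by_contra hcon
    push Not at hcon
    have h3 : T = ⊥ := (AddSubgroup.eq_bot_iff_forall T).2 hcon
    rw [h3, AddSubgroup.card_bot] at hcard
    norm_num at hcard
  intro P
  have := Fact.mk Nat.prime_three
  obtain ⟨g, hgP⟩ := MulAction.exists_smul_eq Y P₀ P
  refine ⟨g • u, fun h3 => hu0 ((smul_eq_zero_iff_eq g).1 h3), fun x hx => ?_⟩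
  rw [← hgP] at hx
  obtain ⟨y, hy, hyx⟩ : x ∈ (MulAut.conj g • (P₀ : Subgroup Y)) := hx
  have e : x = g * y * g⁻¹ := hyx.symm
  rw [e, mul_smul, mul_smul, inv_smul_smul, h2 u huT y hy]

theorem as_of {Q : ℕ} (S : SX (U := U) 3 r 2 n X B) (h : LB (W := W) 3 3 2 n L Z π a B)
    (hW : Nat.card W = Q ^ (2 ^ n)) (Qf : ∃ f, 1 ≤ f ∧ Q = 3 ^ f)
    (hsq : ∀ (y : Y) (l l' : L), Multiplicative.toAdd (a l') = y • Multiplicative.toAdd (a l) →
      ∃ z ∈ Z, ∀ w : W, (l' : G) • (l' : G) • z • z • w = (l : G) • (l : G) • w)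
    (n2 : 2 ≤ n) (n6 : n ≤ 6) (nX : X.Normal) (simp : IsSimpleGroup (Y ⧸ X)) (na : ¬ IsMulCommutative (Y ⧸ X))
    (pS : 3 ∣ Nat.card (Y ⧸ X))
    (hdim : ∀ x : G, orderOf x = 3 → ∀ j ≤ n, Nat.card {u : U // π x • u = u} = 2 ^ (2 * (n - j)) →
      ∃ k, 3 * k ≤ 2 ^ j + 2 ∧ Nat.card {w : W // x • w = w} = Q ^ (2 ^ (n - j) * k))
    (hgen : n = 4 → Q = 3 → ∃ w : W, w ≠ 0 ∧ Nat.card (Tw L a w) = 2 ^ 1) : AS r n Q X B := by
  obtain ⟨f, hf, hQf⟩ := Qf
  have hQ3 : 3 ≤ Q := by rw [hQf]; exact Nat.le_self_pow (by omega) 3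
  have hQ9 : Q = 3 ∨ 9 ≤ Q := by
    rcases Nat.lt_or_ge f 2 with h1 | h1
    · left
      rw [hQf, show f = 1 by omega, pow_one]
    · right
      rw [hQf]
      calc 9 = 3 ^ 2 := by norm_num
        _ ≤ 3 ^ f := Nat.pow_le_pow_right (by norm_num) h1
  refine
    { S := S, Qf := ⟨f, hf, hQf⟩, n2 := n2, n6 := n6, nX := nX, simp := simp, na := na, pS := pS
      cnt := ?_, big := ?_, fixd := ?_, qf := ?_ }
  · intro y hy j hj hfix
    obtain ⟨x, t, hx, hpx⟩ := Cfsg.Agent.H696.RIM.exists_x h hy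
    have hfx : Nat.card {u : U // π x • u = u} = 2 ^ (2 * (n - j)) := by
      rw [hpx, Cfsg.Agent.H696.RIM.card_fix_conj, hfix]
    obtain ⟨k, hk, hck⟩ := hdim x hx j hj hfx
    have h1 := Cfsg.Agent.H696.RIM.count_three S h hx hj hfx
    rw [hpx, Cfsg.Agent.H696.RIM.index_normalizer_conj, hck, hW, pow_mul] at h1
    exact ⟨k, hk, h1⟩
  · have := h.lx.nt
    obtain ⟨F, i1, i2, i3, D⟩ := exists_FD (W := W) h.lx.nL h.lx.irr
    obtain ⟨w, T, i, hw, hT, hc, iso, inv, hi⟩ := exists_max h D S hW (by omega)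
    obtain ⟨P, hP⟩ := exists_sylow Nat.prime_three h w
    refine ⟨P, T, i, ?_, hc, iso, ?_⟩
    · rcases hi with h1 | h1
      · exact Or.inl h1
      · exact Or.inr h1.1
    · intro m hm t ht
      obtain ⟨g, hg, rfl⟩ := hP m hm
      exact inv g hg t ht
  · intro hc
    have hw : ∃ w : W, w ≠ 0 ∧ Nat.card (Tw L a w) = 2 ^ 1 := by
      rcases hQ9 with h3 | h9
      · have h4 : 4 ≤ n := by
          rcases hc with h5 | h5
          · omega
          · exact h5
        have h5 : n = 4 ∨ n = 5 ∨ n = 6 := by omega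
        rcases h5 with h5 | rfl | rfl
        · exact hgen h5 h3
        · refine exists_gen S h hW (by norm_num) ?_
          rw [h3]
          norm_num
        · refine exists_gen S h hW (by norm_num) ?_
          rw [h3]
          norm_num
      · refine exists_gen S h hW (by omega) ?_
        have h5 : n = 2 ∨ n = 3 ∨ n = 4 ∨ n = 5 ∨ n = 6 := by omega
        rcases h5 with rfl | rfl | rfl | rfl | rfl
        · norm_num
          omega
        · have := Nat.pow_le_pow_left h9 2
          norm_num at this ⊢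
          omega
        · have := Nat.pow_le_pow_left h9 4
          norm_num at this ⊢
          omega
        · have := Nat.pow_le_pow_left h9 8
          norm_num at this ⊢
          omega
        · have := Nat.pow_le_pow_left h9 16
          norm_num at this ⊢
          omega
    obtain ⟨w, hw0, hwc⟩ := hw
    exact fixed_of_card h hw0 hwc
  · intro hQ
    have := h.lx.nt
    obtain ⟨F, i1, i2, i3, D⟩ := exists_FD (W := W) h.lx.nL h.lx.irr
    have hF : Nat.card F = 3 := by
      have h1 := card_W h.lx D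
      rw [hW, hQ] at h1
      exact (Nat.pow_left_injective (pow_ne_zero n two_ne_zero) h1).symm
    obtain ⟨qf, q1, q2, q3, q4⟩ := exists_q h D hF hsq
    obtain ⟨w, T, i, hw, hT, hc, iso, inv, hi⟩ := exists_max h D S hW (by omega)
    obtain ⟨P, hP⟩ := exists_sylow Nat.prime_three h w
    have hrep : ∀ u : U, ∃ l : L, Multiplicative.toAdd (a l) = u := fun u => ⟨rep h.lx u, by rw [a_rep h.lx D]; rfl⟩
    have z2 : ∀ c : ZMod 2, c = 0 ∨ c = 1 := by decide
    refine ⟨qf, q1, q2, P, T, i, hc, iso, ?_, ?_, ?_⟩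
    · intro m hm t ht
      obtain ⟨g, hg, rfl⟩ := hP m hm
      exact inv g hg t ht
    · intro t ht
      have h1 : t ∈ Tw L a w := by rw [← hT]; exact ht
      obtain ⟨l, rfl, c, hc⟩ := (mem_Tw D).1 h1
      rcases z2 (qf (Multiplicative.toAdd (a l))) with h2 | h2
      · exact h2
      · exfalso
        have h3 := (q4 l).1 h2 w
        rw [hc, D.lin l l.2, hc, smul_smul] at h3
        have hc0 : c ≠ 0 := by
          rintro rfl
          rw [zero_smul, smul_eq_zero_iff_eq] at hc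
          exact hw hc
        rw [(three_field hF).1 c hc0, one_smul] at h3
        have h4 : ((1 : F) - (-1)) • w = 0 := by
          rw [sub_smul, neg_smul, one_smul, ← h3, sub_self]
        exact (three_field hF).2.1 (sub_eq_zero.1 ((smul_eq_zero.1 h4).resolve_right hw))
    · rcases hi with h1 | ⟨h1, h2⟩
      · exact Or.inl h1
      · refine Or.inr ⟨h1, fun u hu huT => ?_⟩
        obtain ⟨l, rfl⟩ := hrep u
        rcases z2 (qf (Multiplicative.toAdd (a l))) with h3 | h3
        · exfalso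
          refine h2 l hu huT 1 fun w => ?_
          rw [(q3 l).1 h3 w, mul_one, one_smul]
        · exact h3

end

end Cfsg.Agent.H20.RIM
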