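import Cfsg.Agent.H20.NX.BData
import Cfsg.Agent.H263.RIM.BDef

/-!
# S4816, layer (B), `q = p`: the structural half (helper20, after H20/NX/BData)

* `struct_L` : the symplectic data, the counting inequality and the module of a noncentral normal subgroup `E ≤ K` of class 2
  with central `s`-th powers; `U` is irreducible if `E` is minimal.
* `exists_s` : a minimal noncentral normal subgroup of class 2 has central `s`-th powers for some prime `s`.
* `struct_BP` : the minimal case.
-/

set_option autoImplicit false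
set_option linter.unusedSectionVars false

open Cfsg
open scoped commutatorElement

namespace Cfsg.Agent.H20.RIM

open Cfsg.Agent.H662.GW Cfsg.Agent.H229.RIM Cfsg.Agent.H263.RIM
open Cfsg.Agent.H20.NX (ExtraSp QPE mem_center_of_perfect exists_lift_order)

universe u

section
variable {p : ℕ} {H V : Type u} [Group H] [Finite H] [AddCommGroup V] [Finite V]
  [DistribMulAction H V] {K N : Subgroup H} {φ : N →* ℂˣ}

theorem nN (C : CoreP (V := V) p K N φ) : N.Normal := by
  refine ⟨fun n hn g => ?_⟩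
  have h := Subgroup.mem_center_iff.1 (C.cen hn) g
  rwa [h, mul_inv_cancel_right]

/-- an element centralising `H` modulo `N` is central -/
theorem mem_center (C : CoreP (V := V) p K N φ) {a : H} (ha : ∀ h : H, ⁅a, h⁆ ∈ N) :
    a ∈ Subgroup.center H := mem_center_of_perfect C.perf C.cen ha

section
variable [hp : Fact p.Prime]

/-- every vector is fixed by a Sylow `p`-subgroup -/
theorem exists_sylow_le (C : CoreP (V := V) p K N φ) (v : V) :
    ∃ P : Sylow p H, (P : Subgroup H) ≤ MulAction.stabilizer H v := by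
  obtain ⟨P⟩ : Nonempty (Sylow p (MulAction.stabilizer H v)) := inferInstance
  obtain ⟨S, hS⟩ := Cfsg.Agent.H37.NW.exists_sylow_map (C.P1 v) P
  refine ⟨S, ?_⟩
  rw [hS]
  exact Subgroup.map_subtype_le _

/-- `V` is covered by the fixed points of the conjugates of a `p`-subgroup -/
theorem exists_conj_fix (C : CoreP (V := V) p K N φ) (X : Subgroup H) (hX : IsPGroup p X) (v : V) :
    ∃ g : H, ∀ x ∈ X, (g * x * g⁻¹) • v = v := by
  obtain ⟨P, hP⟩ := exists_sylow_le C v
  obtain ⟨S, hS⟩ := hX.exists_le_sylow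
  obtain ⟨g, rfl⟩ := MulAction.exists_smul_eq H S P
  refine ⟨g, fun x hx => ?_⟩
  have h1 : g * x * g⁻¹ ∈ ((g • S : Sylow p H) : Subgroup H) := by
    rw [Sylow.coe_subgroup_smul, Subgroup.mem_pointwise_smul_iff_inv_smul_mem]
    have : (MulAut.conj g)⁻¹ • (g * x * g⁻¹) = x := by
      simp [MulAut.smul_def, mul_assoc]
    rw [this]
    exact hS hx
  exact hP h1

end

/-- a normal subgroup `M ≤ E`, abelian modulo `N`, is cyclic modulo `N` -/
theorem exists_gen_mod (C : CoreP (V := V) p K N φ) {E : Subgroup H} (hQ : QPE V N E) {M : Subgroup H}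
    (hM : M.Normal) (hME : M ≤ E) (hab : ∀ a ∈ M, ∀ b ∈ M, ⁅a, b⁆ ∈ N) :
    ∃ g ∈ M, ∀ m ∈ M, ∃ k : ℤ, m * (g ^ k)⁻¹ ∈ N := by
  have := C.nt
  have := nN C
  obtain ⟨W, hW, hinv, hmin⟩ := exists_min (V := V) M
  obtain ⟨g, hg, hgen⟩ := exists_gen M W hW hinv hmin fun a ha b hb w _ => by
    have h1 := (C.ker ⁅a, b⁆).2 (hab a ha b hb) (b • a • w)
    rw [commutatorElement_def] at h1
    simp only [mul_smul, inv_smul_smul] at h1
    exact h1
  refine ⟨g, hg, fun m hm => ?_⟩
  obtain ⟨k, hk⟩ := hgen m hm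
  refine ⟨k, ?_⟩
  have hmem : (g ^ k)⁻¹ * m ∈ N := by
    refine hQ M hM hME W hW hinv _ (mul_mem (inv_mem (zpow_mem hg k)) hm) fun w hw => ?_
    rw [mul_smul, hk w hw, inv_smul_smul]
  have h2 := (nN C).conj_mem _ hmem (g ^ k)
  have h3 : g ^ k * ((g ^ k)⁻¹ * m) * (g ^ k)⁻¹ = m * (g ^ k)⁻¹ := by group
  rwa [h3] at h2

/-- a normal subgroup `M ≤ E`, abelian modulo `N`, is central -/
theorem central_of_abelian (C : CoreP (V := V) p K N φ) {E : Subgroup H} (hQ : QPE V N E) {M : Subgroup H}
    (hM : M.Normal) (hME : M ≤ E) (hab : ∀ a ∈ M, ∀ b ∈ M, ⁅a, b⁆ ∈ N) : M ≤ Subgroup.center H := by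
  have := nN C
  obtain ⟨g, hg, hgen'⟩ := exists_gen_mod C hQ hM hME hab
  -- the centralizer of `M / N`
  let q := QuotientGroup.mk' N
  let C₀ : Subgroup H := (Subgroup.centralizer ({q g} : Set (H ⧸ N))).comap q
  have hC₀ : ∀ h, h ∈ C₀ ↔ q g * q h = q h * q g := by
    intro h
    rw [Subgroup.mem_comap, Subgroup.mem_centralizer_singleton_iff]
    exact ⟨fun h => h.symm, fun h => h.symm⟩
  have hpow : ∀ h : H, ∃ k : ℤ, q h * q g * (q h)⁻¹ = q g ^ k := by
    intro h
    obtain ⟨k, hk⟩ := hgen' (h * g * h⁻¹) (hM.conj_mem g hg h)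
    refine ⟨k, ?_⟩
    have h1 : q (h * g * h⁻¹ * (g ^ k)⁻¹) = 1 := (QuotientGroup.eq_one_iff _).2 hk
    rw [map_mul, map_inv, mul_inv_eq_one, map_mul, map_mul, map_inv, map_zpow] at h1
    exact h1
  have hcomm : ∀ a b : H, ⁅a, b⁆ ∈ C₀ := by
    intro a b
    rw [hC₀]
    obtain ⟨i, hi⟩ := hpow a⁻¹
    obtain ⟨j, hj⟩ := hpow b⁻¹
    rw [map_inv, inv_inv] at hi hj
    have e1 : (q (b * a))⁻¹ * q g * q (b * a) = q g ^ (j * i) := by
      rw [map_mul, mul_inv_rev]
      calc (q a)⁻¹ * (q b)⁻¹ * q g * (q b * q a) = (q a)⁻¹ * ((q b)⁻¹ * q g * q b) * q a := by group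
        _ = (q a)⁻¹ * (q g ^ j) * q a := by rw [hj]
        _ = ((q a)⁻¹ * q g * q a) ^ j := by
            have h := conj_zpow (i := j) (b := q g) (a := (q a)⁻¹)
            rw [inv_inv] at h
            exact h.symm
        _ = q g ^ (j * i) := by rw [hi, ← zpow_mul, mul_comm]
    have e2 : (q (a * b))⁻¹ * q g * q (a * b) = q g ^ (j * i) := by
      rw [map_mul, mul_inv_rev]
      calc (q b)⁻¹ * (q a)⁻¹ * q g * (q a * q b) = (q b)⁻¹ * ((q a)⁻¹ * q g * q a) * q b := by group
        _ = (q b)⁻¹ * (q g ^ i) * q b := by rw [hi]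
        _ = ((q b)⁻¹ * q g * q b) ^ i := by
            have h := conj_zpow (i := i) (b := q g) (a := (q b)⁻¹)
            rw [inv_inv] at h
            exact h.symm
        _ = q g ^ (j * i) := by rw [hj, ← zpow_mul]
    have h1 : ⁅a, b⁆ = (a * b) * (b * a)⁻¹ := by rw [commutatorElement_def]; group
    rw [h1, map_mul, map_inv]
    have e3 : q g * q (a * b) = q (a * b) * q g ^ (j * i) := by
      rw [← e2]; group
    have e5 : (q (b * a))⁻¹ * q g = q g ^ (j * i) * (q (b * a))⁻¹ := by
      rw [← e1]; group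
    rw [← mul_assoc, e3, mul_assoc, mul_assoc, ← e5]
  have htop : C₀ = ⊤ := by
    rw [eq_top_iff, ← C.perf, commutator_def, Subgroup.commutator_le]
    exact fun a _ b _ => hcomm a b
  intro m hm
  refine mem_center C fun k => ?_
  obtain ⟨i, hi⟩ := hgen' m hm
  have h1 : q m = q g ^ i := by
    have h := (QuotientGroup.eq_one_iff _).2 hi
    change q (m * (g ^ i)⁻¹) = 1 at h
    rw [map_mul, map_inv, mul_inv_eq_one, map_zpow] at h
    exact h
  have h2 := (hC₀ k).1 (by rw [htop]; trivial)
  have h3 : Commute (q m) (q k) := by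
    rw [h1]
    exact (show Commute (q g) (q k) from h2).zpow_left i
  have h4 : q ⁅m, k⁆ = 1 := by
    rw [map_commutatorElement, commutatorElement_eq_one_iff_commute]
    exact h3
  exact (QuotientGroup.eq_one_iff _).1 h4

/-- **the structural half of layer (B)** for a normal subgroup `E` of class 2 with central `s`-th powers -/
theorem struct_L [hp : Fact p.Prime] (C : CoreP (V := V) p K N φ)
    {E : Subgroup H} (hEn : E.Normal) (hEK : E ≤ K) (hEc : ¬ E ≤ Subgroup.center H)
    (hcls : ∀ a ∈ E, ∀ b ∈ E, ⁅a, b⁆ ∈ Subgroup.center H) {s : ℕ} (hs : s.Prime)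
    (hsc : ∀ l ∈ E, l ^ s ∈ Subgroup.center H) (hQ : QPE V N E) :
    ∃ (n f : ℕ) (U Y : Type u) (_ : AddCommGroup U) (_ : Finite U) (_ : Group Y) (_ : Finite Y)
      (_ : DistribMulAction Y U) (B : U → U → ZMod s) (π : H →* Y), Function.Surjective π ∧
      SP0 p s n f (K.map π) B ∧ (∀ k : H, π k = 1 ↔ ∀ e ∈ E, ⁅k, e⁆ ∈ Subgroup.center H) ∧
      ((∀ M : Subgroup H, M.Normal → M ≤ E → M ≠ E → M ≤ Subgroup.center H) →
        ∀ W : AddSubgroup U, (∀ y : Y, ∀ w ∈ W, y • w ∈ W) → W = ⊥ ∨ W = ⊤) ∧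
      (∃ (_ : (K.map π).Normal) (_ : K.Normal), Nonempty (Y ⧸ K.map π ≃* H ⧸ K)) ∧
      Nat.card U = ((Subgroup.center H).subgroupOf E).index ∧
      ∃ (G W : Type u) (_ : Group G) (_ : Finite G) (_ : AddCommGroup W) (_ : Finite W) (_ : DistribMulAction G W)
        (L Z : Subgroup G) (π₀ : G →* Y) (a : L →* Multiplicative U), LP (W := W) p s n f L Z π₀ a B := by
  classical
  have hVnt := C.nt
  have hNn : N.Normal := nN C
  have hKn := C.nK
  set A : Subgroup H := E ⊓ Subgroup.center H with hAdef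
  have hA : A.Normal := inferInstance
  have hAE : A ≤ E := inf_le_left
  have hAZ : A ≤ Subgroup.center H := inf_le_right
  have hAK : A ≤ K := hAE.trans hEK
  have hcomm1 : ∀ a ∈ A, ∀ h : H, ⁅a, h⁆ = 1 := fun a ha h => by
    rw [commutatorElement_eq_one_iff_mul_comm]
    exact (Subgroup.mem_center_iff.1 (hAZ ha) h).symm
  have hcen : ∀ a ∈ A, ∀ l ∈ E, ⁅a, l⁆ ∈ N := fun a ha l _ => by rw [hcomm1 a ha l]; exact one_mem N
  have hab : ∀ a ∈ E, ∀ b ∈ E, ⁅a, b⁆ ∈ A := fun a ha b hb =>
    ⟨E.mul_mem (E.mul_mem (E.mul_mem ha hb) (E.inv_mem ha)) (E.inv_mem hb), hcls a ha b hb⟩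
  have hneA : E ≠ A := fun h => hEc (h ▸ hAZ)
  have hnd : ∀ l ∈ E, (∀ l' ∈ E, ⁅l, l'⁆ ∈ N) → l ∈ A := by
    have h1 : cenK E N ≤ Subgroup.center H :=
      central_of_abelian C hQ (cenK_normal hEn) (fun l hl => hl.1) (fun a ha b hb => ha.2 b hb.1)
    exact fun l hl h => ⟨hl, h1 ⟨hl, h⟩⟩
  obtain ⟨g, hg, hgen⟩ := exists_gen_mod C hQ hA hAE fun a ha b hb => hcen a ha b (hAE hb)
  obtain ⟨U, iU, iUf, iUa, a, hsurj, hker, hequiv⟩ := exists_module A E hA hEn hab
  -- `U` is nontrivial
  have hl₀ : ∃ l ∈ E, l ∉ A := by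
    by_contra h
    push Not at h
    exact hneA (le_antisymm h hAE)
  obtain ⟨l₀, hl₀, hl₀A⟩ := hl₀
  have hUnt : Nontrivial U := ⟨⟨(a ⟨l₀, hl₀⟩).toAdd, 0, fun h => hl₀A ((hker ⟨l₀, hl₀⟩).1 (by
    apply Multiplicative.toAdd.injective; exact h))⟩⟩
  have hrep : ∀ u : U, ∃ l : E, (a l).toAdd = u := fun u => by
    obtain ⟨l, hl⟩ := hsurj (Multiplicative.ofAdd u)
    exact ⟨l, by rw [hl]; rfl⟩
  -- irreducibility
  have hirr : (∀ M : Subgroup H, M.Normal → M ≤ E → M ≠ E → M ≤ Subgroup.center H) →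
      ∀ W : AddSubgroup U, (∀ h : H, ∀ w ∈ W, h • w ∈ W) → W = ⊥ ∨ W = ⊤ := by
    intro hEmin W hW
    have hmin : ∀ M : Subgroup H, M.Normal → A ≤ M → M ≤ E → M = A ∨ M = E := by
      intro M hM hAM hME
      by_cases h : M = E
      · exact Or.inr h
      · exact Or.inl (le_antisymm (le_inf hME (hEmin M hM hME h)) hAM)
    let M : Subgroup H :=
      { carrier := {m | ∃ h : m ∈ E, (a ⟨m, h⟩).toAdd ∈ W}
        one_mem' := ⟨one_mem E, by
          have : a ⟨1, one_mem E⟩ = 1 := map_one a
          rw [this]; exact W.zero_mem⟩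
        mul_mem' := by
          rintro b c ⟨hb, hb'⟩ ⟨hc, hc'⟩
          refine ⟨mul_mem hb hc, ?_⟩
          have : a ⟨b * c, mul_mem hb hc⟩ = a ⟨b, hb⟩ * a ⟨c, hc⟩ := map_mul a ⟨b, hb⟩ ⟨c, hc⟩
          rw [this]; exact W.add_mem hb' hc'
        inv_mem' := by
          rintro b ⟨hb, hb'⟩
          refine ⟨inv_mem hb, ?_⟩
          have : a ⟨b⁻¹, inv_mem hb⟩ = (a ⟨b, hb⟩)⁻¹ := map_inv a ⟨b, hb⟩
          rw [this]; exact W.neg_mem hb' }
    have hMn : M.Normal := by
      refine ⟨?_⟩
      rintro b ⟨hb, hb'⟩ h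
      refine ⟨hEn.conj_mem b hb h, ?_⟩
      rw [hequiv h b hb]
      exact hW h _ hb'
    rcases hmin M hMn (fun b hb => ⟨hAE hb, by
        have : a ⟨b, hAE hb⟩ = 1 := (hker _).2 hb
        rw [this]; exact W.zero_mem⟩) (fun b hb => hb.1) with h | h
    · left
      rw [eq_bot_iff]
      intro w hw
      obtain ⟨l, rfl⟩ := hrep w
      have h1 : (l : H) ∈ M := ⟨l.2, hw⟩
      rw [h] at h1
      rw [(hker l).2 h1]
      exact rfl
    · right
      rw [eq_top_iff]
      intro w _
      obtain ⟨l, rfl⟩ := hrep w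
      have h1 : (l : H) ∈ M := by rw [h]; exact l.2
      exact h1.2
  -- the exponent
  have hUcard : Nat.card U ≠ 1 := by
    have := Finite.one_lt_card (α := U)
    omega
  have hfs : Fact s.Prime := ⟨hs⟩
  have hexp : ∀ l ∈ E, l ^ s ∈ A := fun l hl => ⟨pow_mem hl s, hsc l hl⟩
  have hexpU : ∀ u : U, s • u = 0 := by
    intro u
    obtain ⟨l, rfl⟩ := hrep u
    have h1 : a (l ^ s) = 1 := (hker _).2 (hexp l l.2)
    rw [map_pow] at h1
    exact congrArg Multiplicative.toAdd h1
  have hsU : s ∣ Nat.card U := by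
    obtain ⟨u, hu⟩ := exists_ne (0 : U)
    have h1 : addOrderOf u = s := addOrderOf_eq_prime (hexpU u) hu
    rw [← h1]
    exact addOrderOf_dvd_natCard u
  obtain ⟨B, haddl, haddr, halt, hBnd, -, hinv, hB0⟩ :=
    exists_form hNn hA hEn hAE hs hg hgen hcen hab hexp hnd a hsurj hker hequiv
  obtain ⟨n, hn⟩ := card_even hs _ U B rfl haddl haddr halt hBnd
  have hn1 : 1 ≤ n := by
    rcases Nat.eq_zero_or_pos n with h | h
    · rw [h] at hn
      exact absurd (by simpa using hn) hUcard
    · exact h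
  -- the group `Y`
  let π₀ : H →* (AddMonoid.End U)ˣ := (DistribMulAction.toAddMonoidEnd H U).toHomUnits
  let Y := π₀.range
  let π : H →* Y := π₀.rangeRestrict
  have hπs : Function.Surjective π := π₀.rangeRestrict_surjective
  have hπ : ∀ (h : H) (u : U), π h • u = h • u := fun _ _ => rfl
  have hπ1 : ∀ k : H, π k = 1 ↔ ∀ l ∈ E, ⁅k, l⁆ ∈ A := by
    intro k
    constructor
    · intro hk l hl
      have h1 := hequiv k l hl (hEn.conj_mem l hl k)
      rw [← hπ k, hk, one_smul] at h1
      have h2 : a (⟨k * l * k⁻¹, hEn.conj_mem l hl k⟩ * ⟨l, hl⟩⁻¹) = 1 := by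
        rw [map_mul, map_inv, mul_inv_eq_one]
        exact Multiplicative.toAdd.injective h1
      have h3 := (hker _).1 h2
      exact h3
    · intro h
      apply Subtype.ext
      apply Units.ext
      apply AddMonoidHom.ext
      intro u
      obtain ⟨l, rfl⟩ := hrep u
      change k • (a l).toAdd = (a l).toAdd
      rw [← hequiv k l l.2 (hEn.conj_mem _ l.2 k)]
      congr 1
      rw [← mul_inv_eq_one, ← map_inv, ← map_mul]
      exact (hker _).2 (h l l.2)
  have hkerK : π.ker ≤ K := by
    refine C.maxK _ inferInstance fun htop => ?_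
    apply hEc
    intro e he
    refine mem_center_of_perfect (N := Subgroup.center H) C.perf le_rfl fun h => ?_
    have h1 : π h = 1 := by
      have h2 : h ∈ π.ker := by rw [htop]; trivial
      exact h2
    have h2 : ⁅h, e⁆ ∈ A := (hπ1 h).1 h1 e he
    rw [← commutatorElement_inv]
    exact inv_mem (hAZ h2)
  have hps : p ≠ s := by
    rintro rfl
    apply C.pK
    have h1 : Nat.card U ∣ Nat.card E := by
      have h2 := Subgroup.card_range_dvd (f := a)
      rw [MonoidHom.range_eq_top.2 hsurj, Subgroup.card_top] at h2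
      exact h2
    exact (hsU.trans h1).trans (Subgroup.card_dvd_of_le hEK)
  -- the module `W`
  obtain ⟨W₀, hW₀, hWinv, hWmin⟩ := exists_min (V := V) E
  let G : Subgroup H := stabG W₀
  have hLinv : ∀ l ∈ E, ∀ w : V, l • w ∈ W₀ ↔ w ∈ W₀ := by
    intro l hl w
    refine ⟨fun h => ?_, hWinv l hl w⟩
    have h1 := hWinv l⁻¹ (inv_mem hl) _ h
    rwa [inv_smul_smul] at h1
  have hLG : E ≤ G := fun l hl => hLinv l hl
  have hsub : ∀ (h : H) (w : V), w ∈ W₀ → w ≠ 0 → h • w = w → ∀ v ∈ W₀, h • v ∈ W₀ := by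
    intro h w hw hw0 hhw
    let W' : AddSubgroup V := W₀ ⊓ W₀.comap (DistribSMul.toAddMonoidHom V h)
    have hW' : ∀ v, v ∈ W' ↔ v ∈ W₀ ∧ h • v ∈ W₀ := fun v => Iff.rfl
    rcases hWmin W' inf_le_left (fun l hl v hv => by
      rw [hW'] at hv ⊢
      refine ⟨hWinv l hl v hv.1, ?_⟩
      have h1 : h • l • v = (h * l * h⁻¹) • h • v := by
        rw [← mul_smul, ← mul_smul]; congr 1; group
      rw [h1]
      exact hWinv _ (hEn.conj_mem l hl h) _ hv.2) with h1 | h1
    · exfalso
      apply hw0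
      have h2 : w ∈ W' := (hW' w).2 ⟨hw, by rw [hhw]; exact hw⟩
      rw [h1] at h2
      exact h2
    · intro v hv
      have h2 : v ∈ W' := by rw [h1]; exact hv
      exact ((hW' v).1 h2).2
  have hfixG : ∀ (h : H) (w : V), w ∈ W₀ → w ≠ 0 → h • w = w → h ∈ G := by
    intro h w hw hw0 hhw v
    refine ⟨fun hv => ?_, hsub h w hw hw0 hhw v⟩
    have h1 := hsub h⁻¹ w hw hw0 (by rw [inv_smul_eq_iff, hhw]) _ hv
    rwa [inv_smul_smul] at h1
  obtain ⟨⟨w₀, hw₀W⟩, hw₀⟩ := W₀.ne_bot_iff_exists_ne_zero.1 hW₀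
  have hw₀' : w₀ ≠ 0 := fun h => hw₀ (Subtype.ext h)
  let iW : DistribMulAction G W₀ := actOn G W₀ (fun m hm w hw => (hm w).2 hw)
  have hiW : ∀ (m : G) (w : W₀), ((m • w : W₀) : V) = (m : H) • (w : V) := fun _ _ => rfl
  have hAG : A ≤ G := hAE.trans hLG
  have htriv : ∀ m ∈ E, (∀ w ∈ W₀, m • w = w) → m ∈ N := hQ E hEn le_rfl W₀ hW₀ hWinv
  have hYf : Finite Y := Finite.of_surjective π hπs
  have hfaith : ∀ y : Y, (∀ u : U, y • u = u) → y = 1 := by
    intro y hy
    obtain ⟨h, rfl⟩ := hπs y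
    apply Subtype.ext
    apply Units.ext
    apply AddMonoidHom.ext
    intro u
    exact hy u
  have hLX : Cfsg.Agent.H20.GWX.LX (W := W₀) p p s n (E.subgroupOf G) (A.subgroupOf G) (π.comp G.subtype)
      (a.comp (Subgroup.subgroupOfEquivOfLe hLG).toMonoidHom) :=
    { hp := hp.out
      hr := hp.out
      hs := hs
      hps := hps
      hn := hn1
      pker := fun h => C.pK ((h.trans (by
        have h1 : (π.comp G.subtype).ker = π.ker.comap G.subtype := rfl
        rw [h1]
        exact Subgroup.card_comap_dvd_of_injective π.ker G.subtype G.subtype_injective)).trans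
          (Subgroup.card_dvd_of_le hkerK))
      faith := hfaith
      nL := hEn.subgroupOf G
      nZ := hA.subgroupOf G
      ZL := Subgroup.comap_mono hAE
      nt := (AddSubgroup.nontrivial_iff_ne_bot W₀).2 hW₀
      expW := fun w => Subtype.ext (C.exp w)
      irr := by
        intro W' hW'
        rcases hWmin (W'.map W₀.subtype) (by rintro _ ⟨w, _, rfl⟩; exact w.2) (by
            rintro m hm _ ⟨w, hw, rfl⟩
            exact ⟨(⟨m, hLG hm⟩ : G) • w, hW' _ hm w hw, rfl⟩) with h1 | h1
        · left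
          rwa [AddSubgroup.map_eq_bot_iff_of_injective _ W₀.subtype_injective] at h1
        · right
          rw [eq_top_iff]
          rintro w -
          have h2 : (w : V) ∈ W'.map W₀.subtype := by rw [h1]; exact w.2
          obtain ⟨w', hw', h3⟩ := h2
          rwa [← show w' = w from Subtype.ext h3]
      scal := by
        intro z hz l hl w
        apply Subtype.ext
        change (z : H) • (l : H) • (w : V) = (l : H) • (z : H) • (w : V)
        have h1 := (C.ker _).2 (hcen z hz l hl) ((l : H) • (z : H) • (w : V))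
        rw [commutatorElement_def] at h1
        simp only [mul_smul, inv_smul_smul] at h1
        exact h1
      expL := fun l hl => hexp l hl
      comm := fun l hl l' hl' => hab l hl l' hl'
      card := hn
      nd := by
        intro l hl h
        refine hnd l hl fun l' hl' => ?_
        refine htriv _ (mul_mem (mul_mem (mul_mem hl hl') (inv_mem hl)) (inv_mem hl')) fun w hw => ?_
        have hl'G : l' ∈ G := hLG hl'
        have h1 : ((l : H))⁻¹ • (l'⁻¹ • w) ∈ W₀ := hWinv _ (inv_mem hl) _ (hWinv _ (inv_mem hl') _ hw)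
        have h2 := congrArg Subtype.val (h ⟨l', hl'G⟩ hl' ⟨_, h1⟩)
        simp only [hiW] at h2
        rw [smul_inv_smul, smul_inv_smul] at h2
        rw [commutatorElement_def, mul_smul, mul_smul, mul_smul]
        exact h2
      surj := hsurj.comp (Subgroup.subgroupOfEquivOfLe hLG).surjective
      ker := fun l => hker ((Subgroup.subgroupOfEquivOfLe hLG) l)
      equiv := fun g l hl hl' => hequiv g l hl hl' }
  have hWnt : Nontrivial W₀ := hLX.nt
  obtain ⟨F, iF1, iF2, iF3, D⟩ := Cfsg.Agent.H684.GW.exists_FD (W := W₀) hLX.nL hLX.irr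
  obtain ⟨f, hf1, hfc⟩ := Cfsg.Agent.H20.GWX.exists_card hLX D
  have hsf := Cfsg.Agent.H20.GWX.dvd_card hLX D
  -- the inequality for elements of order `p` of `G`
  have hineq1 : ∀ (x : H) (hxG : x ∈ G), orderOf x = p → ∀ j ≤ n, Nat.card {u : U // π x • u = u} = s ^ (2 * (n - j)) →
      Ineq p s n j (p ^ f) (Subgroup.centralizer ({π x} : Set Y)).index := by
    intro x hxG hxp j hj hfix
    rw [← hfc]
    refine Cfsg.Agent.H20.GWX.ineq hLX D (x := ⟨x, hxG⟩) ?_ ?_ ?_ hj hfix
    · apply Subtype.ext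
      change x ^ p = 1
      rw [← hxp, pow_orderOf_eq_one]
    · intro w
      by_cases hw : w = 0
      · exact ⟨1, by rw [hw, smul_zero]⟩
      obtain ⟨P, hP⟩ := exists_sylow_le C (w : V)
      have hPG : (P : Subgroup H) ≤ G := fun y hy =>
        hfixG y w w.2 (fun h0 => hw (Subtype.ext h0)) (hP hy)
      let P' : Sylow p G := P.subtype hPG
      have hzp : IsPGroup p (Subgroup.zpowers (⟨x, hxG⟩ : G)) := by
        rw [IsPGroup.iff_card]
        exact ⟨1, by rw [Nat.card_zpowers, Subgroup.orderOf_mk, hxp, pow_one]⟩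
      obtain ⟨S, hS⟩ := hzp.exists_le_sylow
      obtain ⟨g, hg⟩ := MulAction.exists_smul_eq G S P'
      refine ⟨g, ?_⟩
      have h1 : g * (⟨x, hxG⟩ : G) * g⁻¹ ∈ ((P' : Sylow p G) : Subgroup G) := by
        rw [← hg, Sylow.coe_subgroup_smul]
        exact Subgroup.smul_mem_pointwise_smul (⟨x, hxG⟩ : G) (MulAut.conj g) _ (hS (Subgroup.mem_zpowers _))
      apply Subtype.ext
      exact hP h1
    · rintro ⟨z, hzG⟩ hz w
      apply Subtype.ext
      change x • z • (w : V) = z • x • (w : V)
      have hzA : z ∈ A := hz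
      rw [smul_smul, smul_smul, Subgroup.mem_center_iff.1 (hAZ hzA) x]
  have hineq : ∀ y : Y, orderOf y = p → ∀ j ≤ n, Nat.card {u : U // y • u = u} = s ^ (2 * (n - j)) →
      Ineq p s n j (p ^ f) (Subgroup.centralizer ({y} : Set Y)).index := by
    intro y hy j hj hfix
    obtain ⟨x, hx, rfl⟩ := exists_lift_order π (fun h => C.pK (h.trans (Subgroup.card_dvd_of_le hkerK))) hπs hy
    obtain ⟨g, hg⟩ := exists_conj_fix C (Subgroup.zpowers x)
      (IsPGroup.iff_card.2 ⟨1, by rw [Nat.card_zpowers, hx, pow_one]⟩) w₀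
    have hgx := hg x (Subgroup.mem_zpowers x)
    have hxG : g * x * g⁻¹ ∈ G := hfixG _ w₀ hw₀W hw₀' hgx
    have hord : orderOf (g * x * g⁻¹) = p := by
      rw [← hx, ← MulAut.conj_apply]
      exact orderOf_injective (MulAut.conj g).toMonoidHom (MulAut.conj g).injective x
    have hπg : π (g * x * g⁻¹) = π g * π x * (π g)⁻¹ := by rw [map_mul, map_mul, map_inv]
    have h1 := hineq1 _ hxG hord j hj (by
      rw [hπg, Cfsg.Agent.H625.GW.card_fix_conj]
      exact hfix)
    have h2 : (Subgroup.centralizer ({π (g * x * g⁻¹)} : Set Y)).index =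
        (Subgroup.centralizer ({π x} : Set Y)).index := by
      have h3 : Subgroup.centralizer ({π (g * x * g⁻¹)} : Set Y) =
          (Subgroup.centralizer ({π x} : Set Y)).map (MulAut.conj (π g)).toMonoidHom := by
        ext t
        rw [Subgroup.mem_map_equiv, Subgroup.mem_centralizer_singleton_iff, Subgroup.mem_centralizer_singleton_iff,
          hπg, MulAut.conj_symm_apply]
        constructor
        · intro h4
          calc (π g)⁻¹ * t * π g * π x = (π g)⁻¹ * (t * (π g * π x * (π g)⁻¹)) * π g := by group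
            _ = (π g)⁻¹ * (π g * π x * (π g)⁻¹ * t) * π g := by rw [h4]
            _ = _ := by group
        · intro h4
          calc t * (π g * π x * (π g)⁻¹) = π g * ((π g)⁻¹ * t * π g * π x) * (π g)⁻¹ := by group
            _ = π g * (π x * ((π g)⁻¹ * t * π g)) * (π g)⁻¹ := by rw [h4]
            _ = _ := by group
      rw [h3]
      exact Subgroup.index_map_equiv _ (MulAut.conj (π g))
    rwa [h2] at h1
  -- the quotient
  have hXn : (K.map π).Normal := C.nK.map π hπs
  let ψ : H →* Y ⧸ K.map π := (QuotientGroup.mk' _).comp π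
  have hψ : Function.Surjective ψ := (QuotientGroup.mk'_surjective _).comp hπs
  have hmemK : ∀ k : H, π k ∈ K.map π → k ∈ K := by
    rintro k ⟨k', hk', h⟩
    have h1 : k'⁻¹ * k ∈ π.ker := by rw [MonoidHom.mem_ker, map_mul, map_inv, h, inv_mul_cancel]
    have h2 := K.mul_mem hk' (hkerK h1)
    rwa [mul_inv_cancel_left] at h2
  have hψk : ψ.ker = K := by
    ext k
    rw [MonoidHom.mem_ker]
    change ((π k : Y) : Y ⧸ K.map π) = 1 ↔ _
    rw [QuotientGroup.eq_one_iff]
    exact ⟨hmemK k, fun h => ⟨k, h, rfl⟩⟩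
  let e : H ⧸ K ≃* Y ⧸ K.map π :=
    (QuotientGroup.quotientMulEquivOfEq hψk.symm).trans (QuotientGroup.quotientKerEquivOfSurjective ψ hψ)
  have hcardq : Nat.card (Y ⧸ K.map π) = Nat.card (H ⧸ K) := (Nat.card_congr e.toEquiv).symm
  refine ⟨n, f, U, Y, iU, iUf, inferInstance, hYf, inferInstance, B, π, hπs, ?_, ?_, ?_, ⟨hXn, C.nK, ⟨e.symm⟩⟩, ?_, G, W₀,
    inferInstance, inferInstance, inferInstance, inferInstance, iW, E.subgroupOf G, A.subgroupOf G, π.comp G.subtype,
    a.comp (Subgroup.subgroupOfEquivOfLe hLG).toMonoidHom, { lb := ?_, card := ?_, sq := ?_ }⟩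
  · exact
      { hp := hp.out
        hs := hs
        odd := C.odd
        hps := hps
        hn := hn1
        perf := by
          rw [eq_top_iff, ← Subgroup.map_top_of_surjective π hπs, ← C.perf]
          rw [commutator_def, commutator_def, Subgroup.map_commutator]
          exact Subgroup.commutator_mono le_top le_top
        nX := hXn
        Xt := by
          intro h
          apply C.Kt
          rw [eq_top_iff]
          intro k _
          exact hmemK k (by rw [h]; trivial)
        maxX := by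
          intro M hM hMt
          have h1 : M.comap π ≤ K := C.maxK _ (hM.comap π) fun h => hMt (by
            rw [← Subgroup.map_comap_eq_self_of_surjective hπs M, h]
            exact Subgroup.map_top_of_surjective π hπs)
          rw [← Subgroup.map_comap_eq_self_of_surjective hπs M]
          exact Subgroup.map_mono h1
        simp := by
          have := C.simp
          exact MulEquiv.isSimpleGroup e.symm
        na := by
          intro h
          apply C.na
          refine ⟨⟨fun a b => e.injective ?_⟩⟩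
          rw [map_mul, map_mul]
          exact h.is_comm.comm _ _
        cop := fun h => C.pK (h.trans (Subgroup.card_map_dvd K π))
        pY := by rw [hcardq]; exact C.pS
        faith := hfaith
        exp := hexpU
        card := hn
        addl := haddl
        addr := haddr
        alt := halt
        nd := hBnd
        inv := by
          intro y u v
          obtain ⟨h, rfl⟩ := hπs y
          refine hinv h (fun z hz => ?_) u v
          rw [← commutatorElement_inv, hcomm1 z hz h, inv_one]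
          exact one_mem N
        hf := hf1
        hsf := by rw [← hfc]; exact hsf
        ineq := hineq }
  · intro k
    rw [hπ1]
    refine ⟨fun h l hl => (h l hl).2, fun h l hl => ⟨?_, h l hl⟩⟩
    exact E.mul_mem (hEn.conj_mem l hl k) (E.inv_mem hl)
  · exact fun hEmin W hW => hirr hEmin W fun h w hw => hW (π h) w hw
  · have h1 : a.ker = (Subgroup.center H).subgroupOf E := by
      ext l
      rw [MonoidHom.mem_ker, hker, Subgroup.mem_subgroupOf]
      exact ⟨fun h => h.2, fun h => ⟨l.2, h⟩⟩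
    rw [← h1, Subgroup.index_ker, MonoidHom.range_eq_top.2 hsurj, Subgroup.card_top]
    rfl
  · exact
      { lx := hLX
        P1 := by
          intro w
          by_cases hw : w = 0
          · have h1 : MulAction.stabilizer G w = ⊤ := by
              rw [eq_top_iff]
              intro g _
              rw [MulAction.mem_stabilizer_iff, hw, smul_zero]
            rw [h1, Subgroup.index_top]
            exact hp.out.not_dvd_one
          · have h1 : MulAction.stabilizer G w = (MulAction.stabilizer H (w : V)).subgroupOf G := by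
              ext g
              rw [MulAction.mem_stabilizer_iff, Subgroup.mem_subgroupOf, MulAction.mem_stabilizer_iff]
              exact ⟨fun h => congrArg Subtype.val h, fun h => Subtype.ext h⟩
            rw [h1]
            intro h2
            refine C.P1 (w : V) (h2.trans (Subgroup.relIndex_dvd_index_of_le ?_))
            exact fun h hh => hfixG h w w.2 (fun h0 => hw (Subtype.ext h0)) hh
        ip := by
          intro h
          have h1 : (π.comp G.subtype).range = G.map π := by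
            rw [MonoidHom.range_comp, Subgroup.range_subtype]
          rw [h1] at h
          have h2 : G.index ∣ (MulAction.stabilizer H w₀).index :=
            Subgroup.index_dvd_of_le fun h hh => hfixG h w₀ hw₀W hw₀' hh
          exact C.P1 w₀ ((h.trans (Subgroup.index_map_dvd G hπs)).trans h2)
        cen := by
          rintro ⟨z, hzG⟩ hz g w
          apply Subtype.ext
          change z • (g : H) • (w : V) = (g : H) • z • (w : V)
          have hzA : z ∈ A := hz
          rw [smul_smul, smul_smul, Subgroup.mem_center_iff.1 (hAZ hzA) g]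
        form := by
          intro l l'
          have h1 := hB0 ((Subgroup.subgroupOfEquivOfLe hLG) l) ((Subgroup.subgroupOfEquivOfLe hLG) l')
          refine h1.trans ?_
          change ⁅((l : G) : H), ((l' : G) : H)⁆ ∈ N ↔ _
          have hlE : ((l : G) : H) ∈ E := l.2
          have hlE' : ((l' : G) : H) ∈ E := l'.2
          constructor
          · intro h w
            apply Subtype.ext
            change ((l : G) : H) • ((l' : G) : H) • (w : V) = ((l' : G) : H) • ((l : G) : H) • (w : V)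
            have h2 := (C.ker _).2 h (((l' : G) : H) • ((l : G) : H) • (w : V))
            rw [commutatorElement_def] at h2
            simp only [mul_smul, inv_smul_smul] at h2
            exact h2
          · intro h
            refine htriv _ (E.mul_mem (E.mul_mem (E.mul_mem hlE hlE') (E.inv_mem hlE)) (E.inv_mem hlE')) fun w hw => ?_
            have h1 : (((l : G) : H))⁻¹ • ((((l' : G) : H))⁻¹ • w) ∈ W₀ :=
              hWinv _ (inv_mem hlE) _ (hWinv _ (inv_mem hlE') _ hw)
            have h2 := congrArg Subtype.val (h ⟨_, h1⟩)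
            simp only [hiW] at h2
            rw [smul_inv_smul, smul_inv_smul] at h2
            rw [commutatorElement_def, mul_smul, mul_smul, mul_smul]
            exact h2 }
  · rw [← hfc]
    exact Cfsg.Agent.H20.GWX.card_W hLX D
  · intro y l l' hll
    obtain ⟨h, rfl⟩ := hπs y
    have hlE : ((l : G) : H) ∈ E := l.2
    have hlE' : ((l' : G) : H) ∈ E := l'.2
    have hc : h * ((l : G) : H) * h⁻¹ ∈ E := hEn.conj_mem _ hlE h
    have h1 := hequiv h ((l : G) : H) hlE hc
    have h2 : a ⟨h * ((l : G) : H) * h⁻¹, hc⟩ = a ⟨((l' : G) : H), hlE'⟩ := by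
      apply Multiplicative.toAdd.injective
      rw [h1]
      exact hll.symm
    have h3 : a (⟨h * ((l : G) : H) * h⁻¹, hc⟩⁻¹ * ⟨((l' : G) : H), hlE'⟩) = 1 := by
      rw [map_mul, map_inv, h2, inv_mul_cancel]
    have hzA : (h * ((l : G) : H) * h⁻¹)⁻¹ * ((l' : G) : H) ∈ A := (hker _).1 h3
    obtain ⟨z, hz⟩ : ∃ z, z = (h * ((l : G) : H) * h⁻¹)⁻¹ * ((l' : G) : H) := ⟨_, rfl⟩
    rw [← hz] at hzA
    have hzl : ((l' : G) : H) = h * ((l : G) : H) * h⁻¹ * z := by rw [hz, mul_inv_cancel_left]
    have hzc := Subgroup.mem_center_iff.1 (hAZ hzA)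
    have hl2c := Subgroup.mem_center_iff.1 (hAZ (hexp _ hlE))
    refine ⟨⟨z, hAG hzA⟩, hzA, fun w => ?_⟩
    apply Subtype.ext
    change ((l' : G) : H) ^ s • (w : V) = (z ^ s) • ((l : G) : H) ^ s • (w : V)
    rw [smul_smul, hzl]
    have h4 : Commute (h * ((l : G) : H) * h⁻¹) z := hzc _
    have h5 : Commute (((l : G) : H) ^ s) (z ^ s) := by
      have : Commute ((l : G) : H) z := hzc _
      exact this.pow_pow s s
    rw [h4.mul_pow, conj_pow, hl2c h, mul_inv_cancel_right, h5.eq]

/-- a minimal noncentral normal subgroup of class 2 has central `s`-th powers -/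
theorem exists_s {E : Subgroup H} (hE : ExtraSp K E) :
    ∃ s : ℕ, s.Prime ∧ ∀ l ∈ E, l ^ s ∈ Subgroup.center H := by
  classical
  have hEn := hE.nE
  set A : Subgroup H := E ⊓ Subgroup.center H with hAdef
  have hA : A.Normal := inferInstance
  have hAE : A ≤ E := inf_le_left
  have hAZ : A ≤ Subgroup.center H := inf_le_right
  have hab : ∀ a ∈ E, ∀ b ∈ E, ⁅a, b⁆ ∈ A := fun a ha b hb =>
    ⟨E.mul_mem (E.mul_mem (E.mul_mem ha hb) (E.inv_mem ha)) (E.inv_mem hb), hE.cls a ha b hb⟩
  have hneA : E ≠ A := fun h => hE.nc (h ▸ hAZ)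
  have hmin : ∀ M : Subgroup H, M.Normal → A ≤ M → M ≤ E → M = A ∨ M = E := by
    intro M hM hAM hME
    by_cases h : M = E
    · exact Or.inr h
    · exact Or.inl (le_antisymm (le_inf hME (hE.min M hM hME h)) hAM)
  obtain ⟨U, iU, iUf, iUa, a, hsurj, hker, hequiv⟩ := exists_module A E hA hEn hab
  have hl₀ : ∃ l ∈ E, l ∉ A := by
    by_contra h
    push Not at h
    exact hneA (le_antisymm h hAE)
  obtain ⟨l₀, hl₀, hl₀A⟩ := hl₀
  have hUnt : Nontrivial U := ⟨⟨(a ⟨l₀, hl₀⟩).toAdd, 0, fun h => hl₀A ((hker ⟨l₀, hl₀⟩).1 (by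
    apply Multiplicative.toAdd.injective; exact h))⟩⟩
  have hrep : ∀ u : U, ∃ l : E, (a l).toAdd = u := fun u => by
    obtain ⟨l, hl⟩ := hsurj (Multiplicative.ofAdd u)
    exact ⟨l, by rw [hl]; rfl⟩
  -- irreducibility
  have hirr : ∀ W : AddSubgroup U, (∀ h : H, ∀ w ∈ W, h • w ∈ W) → W = ⊥ ∨ W = ⊤ := by
    intro W hW
    let M : Subgroup H :=
      { carrier := {m | ∃ h : m ∈ E, (a ⟨m, h⟩).toAdd ∈ W}
        one_mem' := ⟨one_mem E, by
          have : a ⟨1, one_mem E⟩ = 1 := map_one a
          rw [this]; exact W.zero_mem⟩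
        mul_mem' := by
          rintro b c ⟨hb, hb'⟩ ⟨hc, hc'⟩
          refine ⟨mul_mem hb hc, ?_⟩
          have : a ⟨b * c, mul_mem hb hc⟩ = a ⟨b, hb⟩ * a ⟨c, hc⟩ := map_mul a ⟨b, hb⟩ ⟨c, hc⟩
          rw [this]; exact W.add_mem hb' hc'
        inv_mem' := by
          rintro b ⟨hb, hb'⟩
          refine ⟨inv_mem hb, ?_⟩
          have : a ⟨b⁻¹, inv_mem hb⟩ = (a ⟨b, hb⟩)⁻¹ := map_inv a ⟨b, hb⟩
          rw [this]; exact W.neg_mem hb' }
    have hMn : M.Normal := by
      refine ⟨?_⟩
      rintro b ⟨hb, hb'⟩ h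
      refine ⟨hEn.conj_mem b hb h, ?_⟩
      rw [hequiv h b hb]
      exact hW h _ hb'
    rcases hmin M hMn (fun b hb => ⟨hAE hb, by
        have : a ⟨b, hAE hb⟩ = 1 := (hker _).2 hb
        rw [this]; exact W.zero_mem⟩) (fun b hb => hb.1) with h | h
    · left
      rw [eq_bot_iff]
      intro w hw
      obtain ⟨l, rfl⟩ := hrep w
      have h1 : (l : H) ∈ M := ⟨l.2, hw⟩
      rw [h] at h1
      rw [(hker l).2 h1]
      exact rfl
    · right
      rw [eq_top_iff]
      intro w _
      obtain ⟨l, rfl⟩ := hrep w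
      have h1 : (l : H) ∈ M := by rw [h]; exact l.2
      exact h1.2
  -- the prime `s`
  have hUcard : Nat.card U ≠ 1 := by
    have := Finite.one_lt_card (α := U)
    omega
  obtain ⟨s, hs, hsU⟩ := Nat.exists_prime_and_dvd hUcard
  have hfs : Fact s.Prime := ⟨hs⟩
  have hexpU : ∀ u : U, s • u = 0 := by
    let S : AddSubgroup U :=
      { carrier := {u | s • u = 0}
        zero_mem' := smul_zero s
        add_mem' := fun {a b} ha hb => by
          change s • (a + b) = 0
          rw [smul_add, show s • a = 0 from ha, show s • b = 0 from hb, add_zero]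
        neg_mem' := fun {a} ha => by
          change s • (-a) = 0
          rw [smul_neg, show s • a = 0 from ha, neg_zero] }
    rcases hirr S (fun h w hw => by
        change s • (h • w) = 0
        have h2 := map_nsmul (DistribSMul.toAddMonoidHom U h) s w
        change h • (s • w) = s • (h • w) at h2
        rw [← h2, show s • w = 0 from hw, smul_zero]) with h | h
    · exfalso
      obtain ⟨u, hu⟩ := exists_prime_addOrderOf_dvd_card' (G := U) s hsU
      have h1 : u ∈ S := by
        change s • u = 0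
        rw [← hu]; exact addOrderOf_nsmul_eq_zero u
      rw [h] at h1
      rw [show u = 0 from h1, addOrderOf_zero] at hu
      exact hs.one_lt.ne hu
    · intro u
      have h1 : u ∈ S := by rw [h]; trivial
      exact h1
  have hexp : ∀ l ∈ E, l ^ s ∈ A := by
    intro l hl
    have h1 : a (⟨l, hl⟩ ^ s) = 1 := by
      rw [map_pow]
      apply Multiplicative.toAdd.injective
      exact hexpU (a ⟨l, hl⟩).toAdd
    exact (hker _).1 h1
  exact ⟨s, hs, fun l hl => hAZ (hexp l hl)⟩

/-- **the structural half of layer (B)** -/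
theorem struct_BP [hp : Fact p.Prime] (C : CoreP (V := V) p K N φ)
    {E : Subgroup H} (hE : ExtraSp K E) (hQ : QPE V N E) :
    ∃ (s n f : ℕ) (U Y : Type u) (_ : AddCommGroup U) (_ : Finite U) (_ : Group Y) (_ : Finite Y)
      (_ : DistribMulAction Y U) (B : U → U → ZMod s) (π : H →* Y), Function.Surjective π ∧
      SP p s n f (K.map π) B ∧ (∀ k : H, π k = 1 ↔ ∀ e ∈ E, ⁅k, e⁆ ∈ Subgroup.center H) ∧
      (∃ (_ : (K.map π).Normal) (_ : K.Normal), Nonempty (Y ⧸ K.map π ≃* H ⧸ K)) ∧
      Nat.card U = ((Subgroup.center H).subgroupOf E).index ∧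
      ∃ (G W : Type u) (_ : Group G) (_ : Finite G) (_ : AddCommGroup W) (_ : Finite W) (_ : DistribMulAction G W)
        (L Z : Subgroup G) (π₀ : G →* Y) (a : L →* Multiplicative U), LP (W := W) p s n f L Z π₀ a B := by
  obtain ⟨s, hs, hsc⟩ := exists_s hE
  obtain ⟨n, f, U, Y, i1, i2, i3, i4, i5, B, π, h1, h2, h3, h4, h5, h6, h7⟩ :=
    struct_L C hE.nE hE.EK hE.nc hE.cls hs hsc hQ
  exact ⟨s, n, f, U, Y, i1, i2, i3, i4, i5, B, π, h1, { toSP0 := h2, irr := h4 hE.min }, h3, h5, h6, h7⟩

end

end Cfsg.Agent.H20.RIM
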