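import Cfsg.Agent.H20.RIM.KillP
import Cfsg.Agent.H20.RIM.AS

/-!
# S4816, layer (B), `q = p`: big isotropic subgroups `T_w` and the quadratic form for `|F| = 3` (helper20)
-/

set_option autoImplicit false
set_option linter.unusedSectionVars false

open scoped commutatorElement
open Module

namespace Cfsg.Agent.H20.RIM

open Cfsg.Agent.H586.NX
open Cfsg.Agent.H20.GWX
open Cfsg.Agent.H684.GW (FD exists_FD)
open Cfsg.Agent.H684.GW.FD
open Cfsg.Agent.H921.NX (B_zero_left B_zero_right B_neg_right B_neg_left B_swap perp mem_perp card_perp exists_nonperp exists_ext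
  mem_Tw exists_T Good eig mem_eig sq_scal anti ext_iso exists_mem_perp perp_facts)

universe u v

section

variable {p q r n : ℕ} {G : Type v} {W : Type u} {Y U : Type*} [Group G] [Finite G] [AddCommGroup W] [Finite W]
    [DistribMulAction G W] [Group Y] [Finite Y] [AddCommGroup U] [Finite U] [DistribMulAction Y U]
    {L Z : Subgroup G} {π : G →* Y} {a : L →* Multiplicative U} {X : Subgroup Y} {B : U → U → ZMod 2}
    {F : Type u} [Field F] [Finite F] [Module F W]

theorem card_iso_le (S : SX (U := U) p r 2 n X B) {T : AddSubgroup U} (iso : ∀ u ∈ T, ∀ v ∈ T, B u v = 0) :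
    Nat.card T ≤ 2 ^ n := by
  have h1 := (perp_facts S T).1
  have h2 : Nat.card T ≤ Nat.card (perp S T) := AddSubgroup.card_le_of_le fun u hu t ht => iso u hu t ht
  rw [S.card] at h1
  by_contra h3
  push Not at h3
  have h4 : 2 ^ n * 2 ^ n < Nat.card T * Nat.card (perp S T) :=
    Nat.mul_lt_mul'' h3 (lt_of_lt_of_le h3 h2)
  rw [h1, ← pow_add, ← two_mul] at h4
  exact lt_irrefl _ h4

theorem good_le_Tw (h : LB (W := W) p q 2 n L Z π a B) (D : FD (W := W) F L) {S : SX (U := U) p r 2 n X B}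
    {T : AddSubgroup U} {E : Submodule F W} {Q i : ℕ} (g : Good L a S T E Q i) {w : W} (hw : w ∈ E) {t : U} (ht : t ∈ T) :
    t ∈ Tw L a w := by
  obtain ⟨c, hc⟩ := g.sc (rep h.lx t) (by rw [a_rep h.lx D]; exact ht)
  exact (mem_Tw D).2 ⟨rep h.lx t, by rw [a_rep h.lx D]; rfl, c, hc w hw⟩

theorem exists_max (h : LB (W := W) p q 2 n L Z π a B) (D : FD (W := W) F L) (S : SX (U := U) p r 2 n X B) {Q : ℕ}
    (hQ : Nat.card W = Q ^ (2 ^ n)) (hQ2 : 2 ≤ Q) :
    ∃ (w : W) (T : AddSubgroup U) (i : ℕ), w ≠ 0 ∧ (T : Set U) = Tw L a w ∧ Nat.card T = 2 ^ i ∧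
      (∀ u ∈ T, ∀ v ∈ T, B u v = 0) ∧ (∀ g : G, g • w = w → ∀ u ∈ T, π g • u ∈ T) ∧
      (i = n ∨ (i + 1 = n ∧ ∀ l : L, Multiplicative.toAdd (a l) ∈ perp S T → Multiplicative.toAdd (a l) ∉ T →
        ∀ e : F, ¬ ∀ w : W, (l : G) • (l : G) • w = (e * e) • w)) := by
  have hn := S.hn
  have hnz : ∀ (E : Submodule F W) (k : ℕ), Nat.card E = Q ^ (2 ^ k) → ∃ w ∈ E, w ≠ 0 := by
    intro E k hE
    by_contra hcon
    push Not at hcon
    have h1 : E = ⊥ := (Submodule.eq_bot_iff E).2 hcon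
    have h2 : Nat.card E = 1 := by rw [h1]; exact Nat.card_unique
    rw [h2] at hE
    have h3 : 1 < Q ^ (2 ^ k) := Nat.one_lt_pow (by positivity) (by omega)
    omega
  obtain ⟨T, E, g⟩ := exists_good h D S hQ (n - 1) (by omega)
  by_cases hs : ∃ l : L, Multiplicative.toAdd (a l) ∈ perp S T ∧ Multiplicative.toAdd (a l) ∉ T ∧
      ∃ e : F, ∀ w : W, (l : G) • (l : G) • w = (e * e) • w
  · obtain ⟨l, hl, hl', e, he⟩ := hs
    obtain ⟨T', g'⟩ := step h D g (by omega) hl hl' he
    obtain ⟨w, hw, hw0⟩ := hnz _ _ g'.cE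
    obtain ⟨T2, hT2, iso2, inv2⟩ := exists_T h hw0
    have hle : T' ≤ T2 := by
      intro t ht
      rw [← SetLike.mem_coe, hT2]
      exact good_le_Tw h D g' hw ht
    have h1 : T' = T2 := by
      apply AddSubgroup.eq_of_le_of_card_ge hle
      rw [g'.cT, Nat.sub_add_cancel hn]
      exact card_iso_le S iso2
    refine ⟨w, T2, n, hw0, hT2, ?_, iso2, inv2, Or.inl rfl⟩
    rw [← h1, g'.cT, Nat.sub_add_cancel hn]
  · obtain ⟨w, hw, hw0⟩ := hnz _ _ g.cE
    obtain ⟨T2, hT2, iso2, inv2⟩ := exists_T h hw0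
    have hle : T ≤ T2 := by
      intro t ht
      rw [← SetLike.mem_coe, hT2]
      exact good_le_Tw h D g hw ht
    have hge : T2 ≤ T := by
      intro u hu
      by_contra hu'
      have hu1 : u ∈ Tw L a w := by rw [← hT2]; exact hu
      obtain ⟨l, hl, c, hc⟩ := (mem_Tw D).1 hu1
      obtain ⟨d, hd0, hd⟩ := sq_scal h D l
      apply hs
      refine ⟨l, ?_, by rw [hl]; exact hu', c, ?_⟩
      · rw [hl]
        exact fun t ht => iso2 u hu t (hle ht)
      · have h3 := hd w
        rw [hc, D.lin l l.2, hc, smul_smul] at h3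
        have h4 : (c * c - d) • w = 0 := by rw [sub_smul, h3, sub_self]
        have h5 : c * c = d := sub_eq_zero.1 ((smul_eq_zero.1 h4).resolve_right hw0)
        rw [h5]
        exact hd
    have h1 : T = T2 := le_antisymm hle hge
    subst h1
    refine ⟨w, T, n - 1, hw0, hT2, g.cT, iso2, inv2, Or.inr ⟨by omega, ?_⟩⟩
    intro l hl hl' e he
    exact hs ⟨l, hl, hl', e, he⟩

/-! ## three elements -/

theorem three_field (hF : Nat.card F = 3) : (∀ c : F, c ≠ 0 → c * c = 1) ∧ (1 : F) ≠ -1 ∧ (∀ c : F, c ≠ 0 → c = 1 ∨ c = -1) := by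
  have := Fintype.ofFinite F
  have h1 : ∀ c : F, c ≠ 0 → c * c = 1 := by
    intro c hc
    have h2 := FiniteField.pow_card_sub_one_eq_one c hc
    rw [← Nat.card_eq_fintype_card, hF] at h2
    rw [← pow_two]
    exact h2
  refine ⟨h1, ?_, fun c hc => mul_self_eq_one_iff.1 (h1 c hc)⟩
  intro h2
  have h3 : (2 : F) = 0 := by linear_combination h2
  have h4 : (3 : F) = 0 := by
    have h5 : ((Nat.card F : ℕ) : F) = 0 := by
      rw [Nat.card_eq_fintype_card]
      exact Nat.cast_card_eq_zero F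
    rw [hF] at h5
    exact_mod_cast h5
  exact one_ne_zero (α := F) (by linear_combination h4 - h3)

/-- elements of `L` with the same image have the same square -/
theorem sq_congr (h : LB (W := W) p q 2 n L Z π a B) (D : FD (W := W) F L) (hF : Nat.card F = 3) {l l' : L}
    (hl : a l = a l') (w : W) : (l : G) • (l : G) • w = (l' : G) • (l' : G) • w := by
  have := h.lx.nt
  obtain ⟨c, hc⟩ := op_of_a h.lx D hl
  have h1 : ∀ w : W, (l : G) • w = c • (l' : G) • w := fun w => LinearMap.congr_fun hc w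
  have hc0 : c ≠ 0 := by
    rintro rfl
    obtain ⟨w, hw⟩ := exists_ne (0 : W)
    have h2 := h1 w
    rw [zero_smul, smul_eq_zero_iff_eq] at h2
    exact hw h2
  rw [h1, h1, D.lin l' l'.2, smul_smul, (three_field hF).1 c hc0, one_smul]

theorem sq_cases (h : LB (W := W) p q 2 n L Z π a B) (D : FD (W := W) F L) (hF : Nat.card F = 3) (l : L) :
    (∀ w : W, (l : G) • (l : G) • w = w) ∨ (∀ w : W, (l : G) • (l : G) • w = -w) := by
  obtain ⟨d, hd0, hd⟩ := sq_scal h D l
  rcases (three_field hF).2.2 d hd0 with rfl | rfl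
  · exact Or.inl fun w => by rw [hd, one_smul]
  · exact Or.inr fun w => by rw [hd, neg_smul, one_smul]

theorem not_both (h : LB (W := W) p q 2 n L Z π a B) (D : FD (W := W) F L) (hF : Nat.card F = 3) {l : L}
    (h1 : ∀ w : W, (l : G) • (l : G) • w = w) (h2 : ∀ w : W, (l : G) • (l : G) • w = -w) : False := by
  have := h.lx.nt
  obtain ⟨w, hw⟩ := exists_ne (0 : W)
  have h3 : (1 : F) • w = (-1 : F) • w := by rw [one_smul, neg_smul, one_smul, ← h2, h1]
  have h4 : ((1 : F) - (-1)) • w = 0 := by rw [sub_smul, h3, sub_self]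
  exact (three_field hF).2.1 (sub_eq_zero.1 ((smul_eq_zero.1 h4).resolve_right hw))

theorem sq_mul_zero (h : LB (W := W) p q 2 n L Z π a B) {l m : L}
    (hlm : B (Multiplicative.toAdd (a l)) (Multiplicative.toAdd (a m)) = 0) (w : W) :
    ((l * m : L) : G) • ((l * m : L) : G) • w = (l : G) • (l : G) • (m : G) • (m : G) • w := by
  have h1 := (h.form l m).1 hlm
  rw [Subgroup.coe_mul, mul_smul, mul_smul, ← h1 ((m : G) • w)]

theorem sq_mul_one (h : LB (W := W) p q 2 n L Z π a B) (D : FD (W := W) F L) {l m : L}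
    (hlm : B (Multiplicative.toAdd (a l)) (Multiplicative.toAdd (a m)) ≠ 0) (w : W) :
    ((l * m : L) : G) • ((l * m : L) : G) • w = -((l : G) • (l : G) • (m : G) • (m : G) • w) := by
  have h1 := (anti h D hlm).1
  rw [Subgroup.coe_mul, mul_smul, mul_smul]
  have h2 : (m : G) • (l : G) • (m : G) • w = -((l : G) • (m : G) • (m : G) • w) := by
    rw [h1 ((m : G) • w), neg_neg]
  rw [h2, smul_neg]

/-- the quadratic form for `|F| = 3` -/
theorem exists_q (h : LB (W := W) p q 2 n L Z π a B) (D : FD (W := W) F L) (hF : Nat.card F = 3)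
    (hsq : ∀ (y : Y) (l l' : L), Multiplicative.toAdd (a l') = y • Multiplicative.toAdd (a l) →
      ∃ z ∈ Z, ∀ w : W, (l' : G) • (l' : G) • z • z • w = (l : G) • (l : G) • w) :
    ∃ qf : U → ZMod 2, (∀ u v, qf (u + v) = qf u + qf v + B u v) ∧ (∀ (y : Y) (u : U), qf (y • u) = qf u) ∧
      (∀ l : L, qf (Multiplicative.toAdd (a l)) = 0 ↔ ∀ w : W, (l : G) • (l : G) • w = w) ∧
      (∀ l : L, qf (Multiplicative.toAdd (a l)) = 1 ↔ ∀ w : W, (l : G) • (l : G) • w = -w) := by
  classical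
  let qf : U → ZMod 2 := fun u => if ∀ w : W, (rep h.lx u : G) • (rep h.lx u : G) • w = w then 0 else 1
  have hra : ∀ l : L, a (rep h.lx (Multiplicative.toAdd (a l))) = a l := fun l => by rw [a_rep h.lx D]; rfl
  have k0 : ∀ l : L, qf (Multiplicative.toAdd (a l)) = 0 ↔ ∀ w : W, (l : G) • (l : G) • w = w := by
    intro l
    have h1 : (∀ w : W, (rep h.lx (Multiplicative.toAdd (a l)) : G) • (rep h.lx (Multiplicative.toAdd (a l)) : G) • w = w) ↔
        ∀ w : W, (l : G) • (l : G) • w = w := by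
      constructor
      · intro h2 w
        rw [← sq_congr h D hF (hra l)]
        exact h2 w
      · intro h2 w
        rw [sq_congr h D hF (hra l)]
        exact h2 w
    rw [← h1]
    change (if _ then (0 : ZMod 2) else 1) = 0 ↔ _
    split_ifs with h2
    · exact ⟨fun _ => h2, fun _ => rfl⟩
    · exact ⟨fun h3 => absurd h3 (by decide), fun h3 => absurd h3 h2⟩
  have z2 : ∀ c : ZMod 2, c = 0 ∨ c = 1 := by decide
  have k1 : ∀ l : L, qf (Multiplicative.toAdd (a l)) = 1 ↔ ∀ w : W, (l : G) • (l : G) • w = -w := by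
    intro l
    constructor
    · intro h1
      rcases sq_cases h D hF l with h2 | h2
      · rw [(k0 l).2 h2] at h1
        exact absurd h1 (by decide)
      · exact h2
    · intro h1
      rcases z2 (qf (Multiplicative.toAdd (a l))) with h2 | h2
      · exact absurd h1 fun h1 => not_both h D hF ((k0 l).1 h2) h1
      · exact h2
  have hrep : ∀ u : U, ∃ l : L, Multiplicative.toAdd (a l) = u := fun u => ⟨rep h.lx u, by rw [a_rep h.lx D]; rfl⟩
  refine ⟨qf, ?_, ?_, k0, k1⟩
  · intro u v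
    obtain ⟨l, rfl⟩ := hrep u
    obtain ⟨m, rfl⟩ := hrep v
    have hlm : Multiplicative.toAdd (a l) + Multiplicative.toAdd (a m) = Multiplicative.toAdd (a (l * m)) := by
      rw [map_mul, toAdd_mul]
    rw [hlm]
    rcases z2 (B (Multiplicative.toAdd (a l)) (Multiplicative.toAdd (a m))) with hB | hB
    · rw [hB, add_zero]
      rcases sq_cases h D hF l with h1 | h1 <;> rcases sq_cases h D hF m with h2 | h2
      · rw [(k0 l).2 h1, (k0 m).2 h2, (k0 (l * m)).2 fun w => by rw [sq_mul_zero h hB, h2, h1]]; decide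
      · rw [(k0 l).2 h1, (k1 m).2 h2, (k1 (l * m)).2 fun w => by rw [sq_mul_zero h hB, h2, h1]]; decide
      · rw [(k1 l).2 h1, (k0 m).2 h2, (k1 (l * m)).2 fun w => by rw [sq_mul_zero h hB, h2, h1]]; decide
      · rw [(k1 l).2 h1, (k1 m).2 h2, (k0 (l * m)).2 fun w => by rw [sq_mul_zero h hB, h2, h1, neg_neg]]; decide
    · have hB' : B (Multiplicative.toAdd (a l)) (Multiplicative.toAdd (a m)) ≠ 0 := by rw [hB]; decide
      rw [hB]
      rcases sq_cases h D hF l with h1 | h1 <;> rcases sq_cases h D hF m with h2 | h2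
      · rw [(k0 l).2 h1, (k0 m).2 h2, (k1 (l * m)).2 fun w => by rw [sq_mul_one h D hB', h2, h1]]; decide
      · rw [(k0 l).2 h1, (k1 m).2 h2, (k0 (l * m)).2 fun w => by rw [sq_mul_one h D hB', h2, h1, neg_neg]]; decide
      · rw [(k1 l).2 h1, (k0 m).2 h2, (k0 (l * m)).2 fun w => by rw [sq_mul_one h D hB', h2, h1, neg_neg]]; decide
      · rw [(k1 l).2 h1, (k1 m).2 h2, (k1 (l * m)).2 fun w => by rw [sq_mul_one h D hB', h2, h1, neg_neg]]; decide
  · intro y u
    obtain ⟨l, rfl⟩ := hrep u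
    obtain ⟨l', hl'⟩ := hrep (y • Multiplicative.toAdd (a l))
    obtain ⟨z, hz, hzz⟩ := hsq y l l' hl'
    rw [← hl']
    have := h.lx.nt
    obtain ⟨c, hc⟩ := Z_scal h.lx D hz
    have hc0 : c ≠ 0 := by
      rintro rfl
      obtain ⟨w, hw⟩ := exists_ne (0 : W)
      have h2 := hc w
      rw [zero_smul, smul_eq_zero_iff_eq] at h2
      exact hw h2
    have h1 : ∀ w : W, (l' : G) • (l' : G) • w = (l : G) • (l : G) • w := by
      intro w
      have h2 := hzz w
      rwa [hc, hc, smul_smul c c, (three_field hF).1 c hc0, one_smul] at h2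
    rcases sq_cases h D hF l with h2 | h2
    · rw [(k0 l).2 h2, (k0 l').2 fun w => by rw [h1, h2]]
    · rw [(k1 l).2 h2, (k1 l').2 fun w => by rw [h1, h2]]

end

end Cfsg.Agent.H20.RIM
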