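import Cfsg.Agent.H111.RIM.Tools
import Cfsg.Agent.H586.NX.NotNine
import Cfsg.Agent.H586.NX.Fix
import Cfsg.Agent.H994.NX.Wie

/-!
# S4816, layer (B), `q = p = 3`, `n = 2` (K2, helper20)
-/

set_option autoImplicit false
set_option linter.unusedSectionVars false

open Subgroup

namespace Cfsg.Agent.H20.RIM

open Cfsg.Agent.H586.NX
open Cfsg.Agent.H111.RIM (card_faithful)
open Cfsg.Agent.H994.NX (not_nine)

variable {r : ℕ} {Y U : Type*} [Group Y] [Finite Y] [AddCommGroup U] [Finite U] [DistribMulAction Y U]
  {X : Subgroup Y} {B : U → U → ZMod 2}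

theorem P_two_two : Cfsg.Agent.H37.NW.P 2 2 = 720 := by
  simp [Cfsg.Agent.H37.NW.P, Finset.prod_range_succ]

/-- **K2** -/
theorem kill2 (A : AS (U := U) r 2 3 X B) : Sm X := by
  have hf3 : Fact (Nat.Prime 3) := ⟨Nat.prime_three⟩
  have hXn := A.nX
  have := A.simp
  have hYd : Nat.card Y ∣ 720 := by
    rw [← P_two_two]
    exact card_dvd A.S
  have h9 : ¬ 9 ∣ Nat.card Y := by
    obtain ⟨P, T, i, hi, hTc, hiso, hPT⟩ := A.big
    rcases hi with rfl | hi
    · -- `|T| = 4`
      intro h9
      have hfaith : ∀ x ∈ (P : Subgroup Y), orderOf x = 3 → ¬ ∀ t ∈ T, x • t = t := by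
        intro x hx hxo htriv
        obtain ⟨j, hj1, hj2, hjc, -, -⟩ := exists_fix A.S hxo
        have h1 := card_sq_le A.S hxo T hiso htriv
        rw [hTc, hjc, ← pow_mul, Nat.pow_le_pow_iff_right (by norm_num)] at h1
        omega
      have hPd := card_faithful P.2 A.S.exp hPT hTc hfaith
      have hPc : Nat.card P = 3 ^ (Nat.card Y).factorization 3 := P.card_eq_multiplicity
      have hY0 : Nat.card Y ≠ 0 := Nat.card_pos.ne'
      have h2 : 3 ^ 2 ∣ Nat.card P := by
        rw [hPc]
        exact pow_dvd_pow 3 ((Nat.prime_three.pow_dvd_iff_le_factorization hY0).1 (by simpa using h9))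
      have h3 := h2.trans hPd
      revert h3
      decide
    · -- `|T| = 2`
      have hi1 : i = 1 := by omega
      subst hi1
      have hT1 : ∃ t ∈ T, t ≠ 0 := by
        by_contra hcon
        push Not at hcon
        have h1 : T = ⊥ := by
          rw [AddSubgroup.eq_bot_iff_forall]
          exact hcon
        rw [h1] at hTc
        simp at hTc
      obtain ⟨t, ht, ht0⟩ := hT1
      have hTe : ∀ u ∈ T, u = 0 ∨ u = t := by
        intro u hu
        by_contra hcon
        push Not at hcon
        let f : Fin 3 → T := ![⟨0, T.zero_mem⟩, ⟨t, ht⟩, ⟨u, hu⟩]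
        have hf : Function.Injective f := by
          intro i j hij
          have e1 : (f i : U) = f j := congrArg Subtype.val hij
          fin_cases i <;> fin_cases j <;> simp [f] at e1 ⊢
          · exact ht0 e1.symm
          · exact hcon.1 e1.symm
          · exact ht0 e1
          · exact hcon.2 e1.symm
          · exact hcon.1 e1
          · exact hcon.2 e1
        have h2 := Nat.card_le_card_of_injective f hf
        rw [Nat.card_fin, hTc] at h2
        norm_num at h2
      refine not_nine A.S (Or.inl rfl) ?_
      intro x hx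
      -- conjugate into `P`
      have hxp : IsPGroup 3 (zpowers x) := by
        refine IsPGroup.of_card (n := 1) ?_
        rw [Nat.card_zpowers, hx, pow_one]
      obtain ⟨Q, hQ⟩ := hxp.exists_le_sylow
      obtain ⟨g, hg⟩ := MulAction.exists_smul_eq Y Q P
      have hxg : g * x * g⁻¹ ∈ P := by
        rw [← hg]
        exact Subgroup.smul_mem_pointwise_smul x (MulAut.conj g) (Q : Subgroup Y) (hQ (mem_zpowers x))
      have hfixt : (g * x * g⁻¹) • t = t := by
        rcases hTe _ (hPT _ hxg t ht) with h | h
        · exfalso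
          rw [smul_eq_zero_iff_eq] at h
          exact ht0 h
        · exact h
      obtain ⟨j, hj1, hj2, hjc, -, -⟩ := exists_fix A.S hx
      have hj : j = 1 := by
        by_contra hcon
        have hj : j = 2 := by omega
        subst hj
        rw [Nat.sub_self, mul_zero, pow_zero, Nat.card_eq_one_iff_unique] at hjc
        have h1 := hjc.1
        have h2 : x • (g⁻¹ • t) = g⁻¹ • t := by
          rw [mul_smul, mul_smul] at hfixt
          rw [eq_inv_smul_iff]
          exact hfixt
        have h3 := congrArg Subtype.val (Subsingleton.elim (⟨g⁻¹ • t, h2⟩ : {u : U // x • u = u}) ⟨0, smul_zero x⟩)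
        simp only [smul_eq_zero_iff_eq] at h3
        exact ht0 h3
      rw [hjc, hj]
      norm_num
  have hSY : Nat.card (Y ⧸ X) ∣ Nat.card Y := Subgroup.card_quotient_dvd_card X
  have hc := card_of_not_nine A.na A.pS (fun h => h9 (h.trans hSY)) ((hSY.trans hYd).trans (by norm_num))
  have h60 : Nat.card (Y ⧸ X) = 60 := by
    have h1 := hSY.trans hYd
    rcases hc with h | h | h | h | h | h
    · exact h
    all_goals
      rw [h] at h1
      exfalso
      revert h1
      decide
  left
  refine ⟨h60, fun h5 => ?_⟩
  have h1 : 60 * 5 ∣ Nat.card Y := by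
    rw [← X.index_mul_card, Subgroup.index_eq_card, h60]
    exact Nat.mul_dvd_mul_left 60 h5
  have h2 := h1.trans hYd
  revert h2
  decide

end Cfsg.Agent.H20.RIM
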