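import Cfsg.Agent.H37.NW.NumR

/-!
# S4816, layer (B), `q = p`: the numerical reduction (helper20, after H37/NW/NumR)
-/

set_option autoImplicit false
set_option exponentiation.threshold 2000

namespace Cfsg.Agent.H20.RIM

open Cfsg.Agent.H662.GW Cfsg.Agent.H37.NW

section
variable {p q e m j M : ℕ}

theorem two_three3 (hj : 1 ≤ j) (hq : 3 ≤ q) (h1 : (3 - 1) * (2 ^ m * (2 ^ j - 1)) ≤ 3 * e)
    (h2 : 3 * q ^ e ≤ 2 ^ (4 * m * j + 2 * j ^ 2 + 3 * j)) : m + j ≤ 6 := by
  by_contra hn
  rcases Nat.lt_or_ge (m + j) 8 with h8 | h8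
  · have h : m + j = 7 := by omega
    have hj5 : j ≤ 7 := by omega
    obtain rfl : m = 7 - j := by omega
    interval_cases j
    · exact small 3 43 hq (by norm_num) (by norm_num) h1 (by norm_num) h2 (by norm_num)
    · exact small 3 64 hq (by norm_num) (by norm_num) h1 (by norm_num) h2 (by norm_num)
    · exact small 3 75 hq (by norm_num) (by norm_num) h1 (by norm_num) h2 (by norm_num)
    · exact small 3 80 hq (by norm_num) (by norm_num) h1 (by norm_num) h2 (by norm_num)
    · exact small 3 83 hq (by norm_num) (by norm_num) h1 (by norm_num) h2 (by norm_num)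
    · exact small 3 84 hq (by norm_num) (by norm_num) h1 (by norm_num) h2 (by norm_num)
    · exact small 3 85 hq (by norm_num) (by norm_num) h1 (by norm_num) h2 (by norm_num)
  · have h3 : q ^ e ≤ 2 ^ (4 * m * j + 2 * j ^ 2 + 3 * j) := le_trans (by omega) h2
    rcases Nat.lt_or_ge j 2 with hj2 | hj2
    · obtain rfl : j = 1 := by omega
      have h5 : 4 * m * 1 + 2 * 1 ^ 2 + 3 * 1 ≤ 33 * 2 ^ (m + 1 - 8) := by
        have h6 : m + 1 - 8 < 2 ^ (m + 1 - 8) := Nat.lt_pow_self (by norm_num)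
        omega
      refine big 3 3 1 3 2 8 33 hq h3 (n := m + 1) ?_ h5 h8 (by norm_num) (by norm_num) (by norm_num)
      have h7 : 2 ^ (m + 1) = 2 * 2 ^ m := by rw [pow_succ']
      norm_num at h1
      omega
    · have h4 := two_ge (m := m) (i := 2) hj2
      have h5 : 2 ^ (m + j) = 4 * 2 ^ (m + j - 2) := by
        rw [show (4 : ℕ) = 2 ^ 2 by norm_num, ← pow_add]; congr 1; omega
      refine big 3 2 1 3 2 8 152 hq h3 (n := m + j) ?_
        (lin 8 152 (E_le m j) h8 (by norm_num) (by norm_num)) h8 (by norm_num) (by norm_num) (by norm_num)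
      omega

theorem two_five5 (hj : 2 ≤ j) (hq : 5 ≤ q) (h1 : (5 - 1) * (2 ^ m * (2 ^ j - 1)) ≤ 5 * e)
    (h2 : 5 * q ^ e ≤ 2 ^ (4 * m * j + 2 * j ^ 2 + 3 * j)) : m + j ≤ 5 := by
  by_contra hn
  rcases Nat.lt_or_ge (m + j) 7 with h8 | h8
  · have h : m + j = 6 := by omega
    have hj5 : j ≤ 6 := by omega
    obtain rfl : m = 6 - j := by omega
    interval_cases j
    · exact small 5 39 hq (by norm_num) (by norm_num) h1 (by norm_num) h2 (by norm_num)
    · exact small 5 45 hq (by norm_num) (by norm_num) h1 (by norm_num) h2 (by norm_num)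
    · exact small 5 48 hq (by norm_num) (by norm_num) h1 (by norm_num) h2 (by norm_num)
    · exact small 5 50 hq (by norm_num) (by norm_num) h1 (by norm_num) h2 (by norm_num)
    · exact small 5 51 hq (by norm_num) (by norm_num) h1 (by norm_num) h2 (by norm_num)
  · have h3 : q ^ e ≤ 2 ^ (4 * m * j + 2 * j ^ 2 + 3 * j) := le_trans (by omega) h2
    have h4 := two_ge (m := m) (i := 2) hj
    have h5 : 2 ^ (m + j) = 4 * 2 ^ (m + j - 2) := by
      rw [show (4 : ℕ) = 2 ^ 2 by norm_num, ← pow_add]; congr 1; omega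
    refine big 5 5 3 9 4 7 119 hq h3 (n := m + j) ?_
      (lin 7 119 (E_le m j) h8 (by norm_num) (by norm_num)) h8 (by norm_num) (by norm_num) (by norm_num)
    omega

end

/-- the numerical reduction for `r = p` -/
theorem num_p {p s n j f M : ℕ} (hp : p.Prime) (hs : s.Prime) (hps : p ≠ s) (hp2 : p ≠ 2)
    (hj : 1 ≤ j) (hjn : j ≤ n) (hd : ∃ i, 1 ≤ i ∧ i ≤ j ∧ p ∣ s ^ (2 * i) - 1) (hf : 1 ≤ f)
    (hsq : s ∣ p ^ f - 1) (hM : M * (p * P s (n - j)) ≤ P s n) (hI : Ineq p s n j (p ^ f) M) :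
    s = 2 ∧ ((p = 3 ∧ n ≤ 6 ∧ (5 ≤ p ^ f → n ≤ 5)) ∨ (p = 5 ∧ n ≤ 5 ∧ (7 ≤ p ^ f → n ≤ 4)) ∨ (p = 7 ∧ n ≤ 4)) := by
  obtain ⟨m, rfl⟩ : ∃ m, n = m + j := ⟨n - j, by omega⟩
  rw [Nat.add_sub_cancel] at hM
  obtain ⟨i, hi, hij, hd⟩ := hd
  have hp1 := hp.two_le
  have hs1 := hs.two_le
  have hrf : p ≤ p ^ f := Nat.le_self_pow (by omega) p
  obtain ⟨e, h1, h2, h3⟩ := base (by omega) hs1 (by omega) hM hI
  have hp4 : p ≠ 4 := fun h => by rw [h] at hp; revert hp; norm_num
  rcases Nat.lt_or_ge s 5 with hs5 | hs5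
  · have : s = 2 ∨ s = 3 := by
      interval_cases s <;> first | omega | (exfalso; revert hs; norm_num)
    rcases this with rfl | rfl
    · refine ⟨rfl, ?_⟩
      have hj2 : p ≠ 3 → 2 ≤ j := by
        intro h3
        by_contra hj2
        obtain rfl : i = 1 := by omega
        have : p ∣ 3 := by simpa using hd
        exact h3 ((Nat.prime_dvd_prime_iff_eq hp Nat.prime_three).1 this)
      rcases Nat.lt_or_ge p 11 with h11 | h11
      · have h357 : p = 3 ∨ p = 5 ∨ p = 7 := by
          interval_cases p <;> first | omega | (exfalso; revert hp; norm_num)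
        rcases h357 with rfl | rfl | rfl
        · exact Or.inl ⟨rfl, two_three3 hj hrf h1 h2, fun h => two_three hj h h1 h2⟩
        · exact Or.inr (Or.inl ⟨rfl, two_five5 (hj2 (by norm_num)) hrf h1 h2,
            fun h => two_five (hj2 (by norm_num)) h h1 h2⟩)
        · refine Or.inr (Or.inr ⟨rfl, ?_⟩)
          have hj3 : 3 ≤ j := by
            by_contra hj3
            have : i < 3 := by omega
            interval_cases i <;> revert hd <;> norm_num
          exact two_seven hj3 (by omega) h1 h2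
      · exfalso
        obtain ⟨rfl, h4, rfl⟩ := two_eleven hp h11 hij hd hi (by omega) h1 h2 (fun _ => Or.inl (by omega))
        obtain rfl : m = 0 := by omega
        norm_num at h1 h2
        have he : 15 ≤ e := by omega
        have h5 : 17 ^ 15 ≤ (17 ^ f) ^ e := (Nat.pow_le_pow_left hrf _).trans (Nat.pow_le_pow_right (by omega) he)
        norm_num at h5
        omega
    · exfalso
      have h4 : 4 ≤ p ^ f := by
        obtain ⟨c, hc⟩ := hsq
        omega
      obtain ⟨rfl, h5, rfl⟩ := s_three hp (by omega) hij hd hi h4 h1 h2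
      obtain rfl : m = 0 := by omega
      norm_num at h1 h2
      have hf2 : 2 ≤ f := by
        by_contra hf2
        obtain rfl : f = 1 := by omega
        norm_num at hsq
      have h25 : 25 ≤ 5 ^ f := by
        calc 25 = 5 ^ 2 := by norm_num
          _ ≤ 5 ^ f := Nat.pow_le_pow_right (by norm_num) hf2
      have he : 7 ≤ e := by omega
      have h5 : 25 ^ 7 ≤ (5 ^ f) ^ e := (Nat.pow_le_pow_left h25 _).trans (Nat.pow_le_pow_right (by omega) he)
      norm_num at h5
      omega
  · exfalso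
    have h4 : s < p ^ f := by
      obtain ⟨c, hc⟩ := hsq
      have hc0 : c ≠ 0 := by
        rintro rfl
        omega
      have : s * 1 ≤ s * c := Nat.mul_le_mul_left _ (by omega)
      omega
    have h5 := s_five hp (by omega) hs hs5 hp hij hd hi rfl h4 hsq h1 h2
    omega

end Cfsg.Agent.H20.RIM
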